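import Cfsg.Agent.H161.OuterGraph
import Cfsg.Agent.H370.DP.Def2

/-!
# The square of an automorphism of `PSL_m(2)` is inner (task 1356, for S3624)
-/

set_option autoImplicit false

namespace Cfsg.Agent.H211.DP.OutSq

open Matrix Cfsg.Agent.H370.DP Cfsg.Agent.H161.OuterGraph
open Cfsg.Agent.ClassicalGeometry.AutPSL.Root Cfsg.Agent.ClassicalGeometry.AutPSL.Auto
  Cfsg.Agent.ClassicalGeometry.AutPSL.Main

theorem itr_cj {F : Type*} [Field F] {n : ℕ} (B : GL (Fin n) F) :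
    ∃ C : GL (Fin n) F, ∀ y : Matrix.SpecialLinearGroup (Fin n) F, itr (cj B y) = cj C (itr y) := by
  have h1 : (B : Matrix (Fin n) (Fin n) F) * ((B⁻¹ : GL (Fin n) F) : Matrix (Fin n) (Fin n) F) = 1 := by
    rw [← Units.val_mul, mul_inv_cancel, Units.val_one]
  have h2 : ((B⁻¹ : GL (Fin n) F) : Matrix (Fin n) (Fin n) F) * (B : Matrix (Fin n) (Fin n) F) = 1 := by
    rw [← Units.val_mul, inv_mul_cancel, Units.val_one]
  have h3 : ((B⁻¹ : GL (Fin n) F) : Matrix (Fin n) (Fin n) F)ᵀ * (B : Matrix (Fin n) (Fin n) F)ᵀ = 1 := by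
    rw [← transpose_mul, h1, transpose_one]
  have h4 : (B : Matrix (Fin n) (Fin n) F)ᵀ * ((B⁻¹ : GL (Fin n) F) : Matrix (Fin n) (Fin n) F)ᵀ = 1 := by
    rw [← transpose_mul, h2, transpose_one]
  refine ⟨⟨((B⁻¹ : GL (Fin n) F) : Matrix (Fin n) (Fin n) F)ᵀ, (B : Matrix (Fin n) (Fin n) F)ᵀ, h3, h4⟩, fun y => ?_⟩
  apply Subtype.ext
  rw [coe_itr, coe_cj, coe_itr, ← map_inv, coe_cj, transpose_mul, transpose_mul, mul_assoc]
  rfl

theorem out_sq {F : Type*} [Field F] [Fintype F] (hF : Fintype.card F = 2) {m : ℕ} (hm : 3 ≤ m)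
    (α : MulAut (PL F m)) : ∃ g, α * α = MulAut.conj g := by
  obtain ⟨p, hp⟩ := CharP.exists F
  have hpf : Fact p.Prime := ⟨CharP.char_is_prime F p⟩
  rcases surj_three p hm α with ⟨B, σ, hB⟩ | ⟨B, σ, hB⟩
  · rw [fld_eq_one hF σ, map_one, mul_one] at hB
    obtain ⟨g, hg⟩ := lift_cj_inner hF B
    refine ⟨g * g, ?_⟩
    rw [hB, hg, map_mul]
  · rw [fld_eq_one hF σ, map_one, mul_one] at hB
    obtain ⟨C, hC⟩ := itr_cj B
    obtain ⟨g, hg⟩ := lift_cj_inner hF (B * C)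
    refine ⟨g, ?_⟩
    rw [hB, ← hg, ← map_mul]
    congr 1
    apply MulEquiv.ext
    intro x
    rw [MulAut.mul_apply, MulAut.mul_apply, MulAut.mul_apply, hC, map_mul, MulAut.mul_apply]
    have h2 : itr (itr x) = x := by
      rw [← MulAut.mul_apply, itr_mul_itr, MulAut.one_apply]
    rw [h2]

end Cfsg.Agent.H211.DP.OutSq
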